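import Groth.Prelude.Def_EtRam
import Mathlib

/-! # Totally ramified extensions from Eisenstein polynomials -/

set_option autoImplicit false

universe u

open Polynomial

namespace Groth.Agent.EisExtLib

/-- An integral element lies in every valuation subring containing the base. -/
theorem mem_of_isIntegral {A K : Type u} [CommRing A] [Field K] [Algebra A K] (V : ValuationSubring K)
    (hA : ∀ a : A, algebraMap A K a ∈ V) {z : K} (hz : IsIntegral A z) : z ∈ V := by
  letI : Algebra A V := (RingHom.codRestrict (algebraMap A K) V hA).toAlgebra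
  haveI : IsScalarTower A V K := IsScalarTower.of_algebraMap_eq fun a => rfl
  obtain ⟨w, rfl⟩ := IsIntegrallyClosed.isIntegral_iff.1 (IsIntegral.tower_top (A := V) hz)
  exact w.2

/-- The field cut out by an Eisenstein polynomial over a discrete valuation ring is totally ramified. -/
theorem isTotallyRamified_of_isEisensteinAt {A : Type u} [CommRing A] [IsDomain A] [IsDiscreteValuationRing A]
    {π : A} (hπ : Irreducible π) {f : A[X]} (hmon : f.Monic) (hdeg : 0 < f.natDegree)
    (heis : f.IsEisensteinAt (IsLocalRing.maximalIdeal A))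
    (hroot : ∃ w : AdjoinRoot f, (∀ M : Ideal (AdjoinRoot f), M.IsMaximal → w ∉ M) ∧
      AdjoinRoot.root f ^ f.natDegree = algebraMap A (AdjoinRoot f) π * w)
    (L : Type u) [Field L] [Algebra (AdjoinRoot f) L] [Algebra A L] [IsScalarTower A (AdjoinRoot f) L]
    [IsFractionRing (AdjoinRoot f) L] :
    EtRam.IsTotallyRamified A (algebraMap A L) := by
  obtain ⟨w, hw, hx⟩ := hroot
  set n := f.natDegree with hndef
  have hn0 : n ≠ 0 := by omega
  have hm : IsLocalRing.maximalIdeal A = Ideal.span {π} := hπ.maximalIdeal_eq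
  have hwu : IsUnit w := by
    by_contra h
    obtain ⟨M, hM, hwM⟩ := exists_max_ideal_of_mem_nonunits (mem_nonunits_iff.2 h)
    exact hw M hM hwM
  have hirr : Irreducible f := heis.irreducible inferInstance hmon.isPrimitive hdeg
  haveI hdom : IsDomain (AdjoinRoot f) := AdjoinRoot.isDomain_of_prime hirr.prime
  haveI : Module.Finite A (AdjoinRoot f) := hmon.finite_adjoinRoot
  haveI : IsNoetherianRing (AdjoinRoot f) := IsNoetherianRing.of_finite A (AdjoinRoot f)
  set x : AdjoinRoot f := AdjoinRoot.root f with hxdef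
  have hinj : Function.Injective (algebraMap A (AdjoinRoot f)) :=
    AdjoinRoot.of.injective_of_degree_ne_zero (by rw [degree_eq_natDegree hmon.ne_zero]; exact_mod_cast hn0)
  have hx0 : x ≠ 0 := fun h => by
    have h0 : algebraMap A (AdjoinRoot f) π * w = 0 := by rw [← hx, h, zero_pow hn0]
    exact hπ.ne_zero (hinj ((hwu.mul_left_eq_zero.mp h0).trans (map_zero _).symm))
  have hπx : x ∣ algebraMap A (AdjoinRoot f) π := by
    obtain ⟨u, rfl⟩ := hwu
    exact ⟨x ^ (n - 1) * ↑u⁻¹, by rw [← mul_assoc, ← pow_succ', Nat.sub_add_cancel (by omega), hx, mul_assoc, Units.mul_inv, mul_one]⟩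
  have hdec : ∀ z : AdjoinRoot f, ∃ (a : A) (c : AdjoinRoot f), z = algebraMap A _ a + x * c := by
    intro z
    obtain ⟨p, rfl⟩ := AdjoinRoot.mk_surjective z
    refine ⟨p.coeff 0, AdjoinRoot.mk f p.divX, ?_⟩
    conv_lhs => rw [← X_mul_divX_add p]
    rw [map_add, map_mul, AdjoinRoot.mk_X, AdjoinRoot.mk_C, add_comm]
    rfl
  have hmax : ∀ M : Ideal (AdjoinRoot f), M.IsMaximal → M = Ideal.span {x} := by
    intro M hM
    haveI := hM
    haveI : (M.under A).IsMaximal := Ideal.isMaximal_comap_of_isIntegral_of_isMaximal (R := A) M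
    have hπM : algebraMap A (AdjoinRoot f) π ∈ M := by
      have : π ∈ M.under A := by rw [IsLocalRing.eq_maximalIdeal ‹(M.under A).IsMaximal›]; exact hπ.not_isUnit
      exact this
    have hxM : x ∈ M := hM.isPrime.mem_of_pow_mem n (hx ▸ M.mul_mem_right w hπM)
    refine le_antisymm (fun z hz => ?_) ((Ideal.span_singleton_le_iff_mem M).2 hxM)
    obtain ⟨a, c, rfl⟩ := hdec z
    have ha : a ∈ IsLocalRing.maximalIdeal A := by
      intro hu
      exact hM.ne_top (M.eq_top_of_isUnit_mem ((Submodule.add_mem_iff_left M (M.mul_mem_right c hxM)).1 hz) (hu.map _))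
    rw [hm, Ideal.mem_span_singleton] at ha
    obtain ⟨b, rfl⟩ := ha
    rw [map_mul, Ideal.mem_span_singleton]
    exact dvd_add (hπx.mul_right _) (dvd_mul_right x c)
  obtain ⟨M0, hM0⟩ := Ideal.exists_maximal (AdjoinRoot f)
  haveI hloc : IsLocalRing (AdjoinRoot f) :=
    IsLocalRing.of_unique_max_ideal ⟨M0, hM0, fun M hM => (hmax M hM).trans (hmax M0 hM0).symm⟩
  have hme : IsLocalRing.maximalIdeal (AdjoinRoot f) = Ideal.span {x} := hmax _ inferInstance
  have hnf : ¬ IsField (AdjoinRoot f) := fun hF => hx0 (by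
    have := (IsLocalRing.isField_iff_maximalIdeal_eq.1 hF).symm.trans hme
    exact Ideal.span_singleton_eq_bot.1 this.symm)
  haveI hdvr : IsDiscreteValuationRing (AdjoinRoot f) :=
    ((IsDiscreteValuationRing.TFAE (AdjoinRoot f) hnf).out 0 4
      (a := IsDiscreteValuationRing (AdjoinRoot f)) (b := (IsLocalRing.maximalIdeal (AdjoinRoot f)).IsPrincipal)).2
      ⟨x, hme⟩
  let g := algebraMap (AdjoinRoot f) L
  have hgA : ∀ a : A, algebraMap A L a = g (algebraMap A (AdjoinRoot f) a) := IsScalarTower.algebraMap_apply A (AdjoinRoot f) L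
  have hgi : Function.Injective g := IsFractionRing.injective _ _
  let V0 : ValuationSubring L :=
    { g.range with
      mem_or_inv_mem' := fun z => (ValuationRing.isInteger_or_isInteger (AdjoinRoot f) z) }
  have hV0 : ∀ V : ValuationSubring L, EtRam.Dominates A (algebraMap A L) V → V = V0 ∧ V.valuation (g x) < 1 := by
    intro V hV
    have hsub : ∀ z, g z ∈ V := fun z => mem_of_isIntegral V hV.1
      ((Algebra.IsIntegral.isIntegral z).map (IsScalarTower.toAlgHom A (AdjoinRoot f) L))
    have hxlt : V.valuation (g x) < 1 := by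
      refine lt_of_not_ge fun h => ?_
      have h1 := hV.2 π hπ.not_isUnit
      have h2 : V.valuation (g x) ^ n = V.valuation (g (algebraMap A _ π)) * V.valuation (g w) := by
        rw [← map_pow, ← map_pow, hx, map_mul g, map_mul]
      have h3 : (1 : V.ValueGroup) ≤ V.valuation (g x) ^ n := one_le_pow_of_one_le' h n
      rw [h2, ← hgA] at h3
      exact absurd h3 (not_le.mpr (lt_of_le_of_lt (mul_le_of_le_one_right' ((V.valuation_le_one_iff _).2 (hsub w))) h1))
    refine ⟨le_antisymm (fun v hv => ?_) (fun v => by rintro ⟨z, rfl⟩; exact hsub z), hxlt⟩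
    rcases eq_or_ne v 0 with rfl | hv0
    · exact zero_mem _
    rcases V0.mem_or_inv_mem v with h | ⟨z, hz⟩
    · exact h
    by_cases hu : IsUnit z
    · obtain ⟨u, rfl⟩ := hu
      exact ⟨↑u⁻¹, inv_injective (by rw [← hz, map_units_inv, inv_inv])⟩
    · exfalso
      have hz' : x ∣ z := Ideal.mem_span_singleton.1 (hme ▸ hu)
      obtain ⟨c, rfl⟩ := hz'
      have h1 : V.valuation (g x) * (V.valuation (g c) * V.valuation v) = 1 := by
        rw [← map_mul, ← map_mul, ← mul_assoc, ← map_mul g, hz, inv_mul_cancel₀ hv0, map_one]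
      have h2 : V.valuation (g c) * V.valuation v ≤ 1 :=
        mul_le_one₀ ((V.valuation_le_one_iff _).2 (hsub c)) zero_le' ((V.valuation_le_one_iff _).2 hv)
      exact absurd h1 (ne_of_lt (lt_of_le_of_lt (mul_le_of_le_one_right' h2) hxlt))
  have hlt0 : V0.valuation (g x) < 1 := by
    rw [← V0.valuation_lt_one_iff (⟨g x, x, rfl⟩ : V0)]
    intro hu
    obtain ⟨⟨_, c, rfl⟩, hc⟩ := hu.exists_right_inv
    have hc' : g (x * c) = g 1 := by rw [map_mul, map_one]; exact congrArg Subtype.val hc
    exact ((IsLocalRing.mem_maximalIdeal x).1 (hme ▸ Ideal.mem_span_singleton_self x))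
      (IsUnit.of_mul_eq_one c (hgi hc'))
  refine ⟨⟨V0, fun a => ⟨_, (hgA a).symm⟩, fun a ha => ?_⟩, fun V V' h h' => (hV0 V h).1.trans (hV0 V' h').1.symm, ?_⟩
  · rw [hm, Ideal.mem_span_singleton] at ha
    obtain ⟨b, rfl⟩ := ha
    obtain ⟨d, hd⟩ := hπx
    rw [hgA, map_mul, hd, mul_assoc, map_mul g, map_mul]
    exact lt_of_le_of_lt (mul_le_of_le_one_right' ((V0.valuation_le_one_iff _).2 ⟨_, rfl⟩)) hlt0
  intro V h
  obtain ⟨rfl, hlt⟩ := hV0 V h
  intro y
  obtain ⟨⟨_, z, rfl⟩, rfl⟩ := IsLocalRing.residue_surjective y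
  obtain ⟨a, c, rfl⟩ := hdec z
  refine ⟨a, ?_⟩
  rw [eq_comm, ← sub_eq_zero, ← map_sub, IsLocalRing.residue_eq_zero_iff, V0.valuation_lt_one_iff]
  show V0.valuation (g (algebraMap A (AdjoinRoot f) a + x * c) - algebraMap A L a) < 1
  rw [map_add g, hgA, add_sub_cancel_left, map_mul, map_mul]
  exact lt_of_le_of_lt (mul_le_of_le_one_right' ((V0.valuation_le_one_iff _).2 ⟨_, rfl⟩)) hlt

end Groth.Agent.EisExtLib
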